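import Mathlib
import Cfsg.Agent.Lib.Unitary3.Involution

/-!
Counting in the commuting graph of involutions of `SU₃(q)`, seen from the base involution.
-/

set_option autoImplicit false

namespace Cfsg.Agent.Lib.Unitary3

open Matrix

variable {F : Type*} [Field F] [Fintype F] {q : ℕ}

local notation "herm" => Cfsg.hermForm 3 F q

/-- Involution predicate. -/
abbrev Inv (x : ↥(Cfsg.SU 3 F q)) : Prop := x ≠ 1 ∧ x * x = 1

/-- Some involution commutes with both. -/
abbrev Common (t x : ↥(Cfsg.SU 3 F q)) : Prop :=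
  ∃ y : ↥(Cfsg.SU 3 F q), y ≠ 1 ∧ y * y = 1 ∧ Commute t y ∧ Commute y x

theorem commute_base_iff (hq : Odd q) (hF : Fintype.card F = q ^ 2) {v : Fin 3 → F} (hv : herm v v = 1) :
    Commute (base hF) (rot hF v hv) ↔ v 0 = 0 ∨ (v 1 = 0 ∧ v 2 = 0) := by
  rw [base, commute_iff hq hF, ← herm_swap hF v e0, herm_e0 hF, rot_eq_iff hq hF]
  constructor
  · rintro (h | ⟨μ, -, rfl⟩)
    · exact Or.inl (eq_zero_of_pow_eq_zero h)
    · exact Or.inr ⟨by simp [e0], by simp [e0]⟩
  · rintro (h | ⟨h1, h2⟩)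
    · exact Or.inl (by rw [h, zero_pow (q_ne_zero hF)])
    · refine Or.inr ⟨v 0, ?_, ?_⟩
      · simp [Cfsg.hermForm, Fin.sum_univ_three, h1, h2] at hv
        rw [pow_succ']; exact hv
      · funext i; fin_cases i <;> simp [e0, h1, h2]

theorem common_iff (hq : Odd q) (hF : Fintype.card F = q ^ 2) {v : Fin 3 → F} (hv : herm v v = 1)
    (hc : ¬ Commute (base hF) (rot hF v hv)) :
    Common (base hF) (rot hF v hv) ↔ v 0 * v 0 ^ q ≠ 1 := by
  constructor
  · rintro ⟨y, hy1, hy2, hty, hyx⟩ hN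
    obtain ⟨s, hs, rfl⟩ := exists_rot hq hF y hy1 hy2
    rcases (commute_base_iff hq hF hs).1 hty with h0 | h12
    · rcases (commute_iff hq hF hs hv).1 hyx with h | h
      · have h' : herm v s = 0 := by rw [← herm_swap hF, h, zero_pow (q_ne_zero hF)]
        exact hc ((commute_base_iff hq hF hv).2 (Or.inr (no_common hF hv hs hN h0 h')))
      · rw [h] at hty; exact hc hty
    · obtain ⟨μ, hμ, hsμ⟩ : ∃ μ : F, μ ^ (q + 1) = 1 ∧ s = μ • e0 := by
        refine ⟨s 0, ?_, ?_⟩
        · have := hs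
          simp [Cfsg.hermForm, Fin.sum_univ_three, h12.1, h12.2] at this
          rw [pow_succ']; exact this
        · funext i; fin_cases i <;> simp [e0, h12.1, h12.2]
      have : rot hF s hs = base hF := ((rot_eq_iff hq hF e0_norm hs).2 ⟨μ, hμ, hsμ⟩).symm
      rw [this] at hyx
      exact hc hyx
  · intro hN
    set c := crossVec q (e0 : Fin 3 → F) v with hcdef
    have hne : herm c c ≠ 0 := by
      rw [hcdef, crossVec_norm hF, e0_norm, hv, ← herm_swap hF v e0, herm_e0 hF, mul_one, mul_comm, sub_ne_zero]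
      exact fun h => hN h.symm
    obtain ⟨μ, hμ, hs⟩ := exists_scale hF c hne
    refine ⟨rot hF _ hs, rot_ne_one hq hF _ _, rot_sq hF _ _, ?_, ?_⟩
    · refine (commute_iff hq hF _ _).2 (Or.inl ?_)
      rw [herm_smul_right, hcdef, crossVec_orth_left hF, mul_zero]
    · refine ((commute_iff hq hF _ _).2 (Or.inl ?_)).symm
      rw [herm_smul_right, hcdef, crossVec_orth_right hF, mul_zero]

theorem card_fixed (hq : Odd q) (hF : Fintype.card F = q ^ 2) :
    Nat.card {x : ↥(Cfsg.SU 3 F q) // x ≠ 1 ∧ x * x = 1 ∧ x ≠ base hF ∧ Commute (base hF) x} = q * (q - 1) := by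
  classical
  have h := card_mul_points hq hF (fun x => x ≠ base hF ∧ Commute (base hF) x)
  have hE : Nat.card {v : Fin 3 → F // ∃ hv : herm v v = 1, rot hF v hv ≠ base hF ∧ Commute (base hF) (rot hF v hv)} =
      Nat.card {z : Fin 2 → F // Cfsg.hermForm 2 F q z z = 1} := by
    refine Nat.card_congr
      { toFun := fun v => ⟨Fin.tail v.1, ?_⟩
        invFun := fun z => ⟨Fin.cons 0 z.1, ?_⟩
        left_inv := ?_
        right_inv := fun z => Subtype.ext (Fin.tail_cons (α := fun _ : Fin 3 => F) 0 z.1) }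
    · obtain ⟨hv, hne, hc⟩ := v.2
      rcases (commute_base_iff hq hF hv).1 hc with h0 | ⟨h1, h2⟩
      · have := hv
        rw [← Fin.cons_self_tail v.1, Classical.hermForm_cons, h0, zero_mul, zero_add] at this
        exact this
      · refine absurd ((rot_eq_iff hq hF e0_norm hv).2 ⟨v.1 0, ?_, ?_⟩).symm hne
        · have := hv
          simp [Cfsg.hermForm, Fin.sum_univ_three, h1, h2] at this
          rw [pow_succ']; exact this
        · funext i; fin_cases i <;> simp [e0, h1, h2]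
    · have hv : herm (Fin.cons 0 z.1) (Fin.cons 0 z.1) = 1 := by
        rw [Classical.hermForm_cons, zero_mul, zero_add]; exact z.2
      refine ⟨hv, fun heq => ?_, (commute_base_iff hq hF hv).2 (Or.inl rfl)⟩
      obtain ⟨μ, hμ, he⟩ := (rot_eq_iff hq hF hv e0_norm).1 heq
      have := congrFun he 0
      simp [e0] at this
    · intro v
      obtain ⟨hv, hne, hc⟩ := v.2
      refine Subtype.ext ?_
      have h0 : v.1 0 = 0 := by
        rcases (commute_base_iff hq hF hv).1 hc with h0 | ⟨h1, h2⟩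
        · exact h0
        · refine absurd ((rot_eq_iff hq hF e0_norm hv).2 ⟨v.1 0, ?_, ?_⟩).symm hne
          · have := hv
            simp [Cfsg.hermForm, Fin.sum_univ_three, h1, h2] at this
            rw [pow_succ']; exact this
          · funext i; fin_cases i <;> simp [e0, h1, h2]
      show Fin.cons 0 (Fin.tail v.1) = v.1
      conv_rhs => rw [← Fin.cons_self_tail v.1, h0]
  rw [hE, Classical.natCard_hermForm_one hF 2, if_pos (by decide)] at h
  refine Nat.eq_of_mul_eq_mul_left (show 0 < q + 1 by omega) (h.trans ?_)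
  rw [show q ^ (2 - 1) = q from pow_one q, show q ^ 2 - 1 = (q + 1) * (q - 1) by simpa using Nat.sq_sub_sq q 1]
  ring

theorem card_far (hq : Odd q) (hF : Fintype.card F = q ^ 2) :
    Nat.card {x : ↥(Cfsg.SU 3 F q) // x ≠ 1 ∧ x * x = 1 ∧ ¬ Commute (base hF) x ∧
      ∀ y : ↥(Cfsg.SU 3 F q), y ≠ 1 → y * y = 1 → ¬ (Commute (base hF) y ∧ Commute y x)} =
      (q + 1) * (q ^ 2 - 1) := by
  classical
  have h := card_mul_points hq hF (fun x => ¬ Commute (base hF) x ∧
      ∀ y : ↥(Cfsg.SU 3 F q), y ≠ 1 → y * y = 1 → ¬ (Commute (base hF) y ∧ Commute y x))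
  have hq0 := q_ne_zero hF
  have hE : Nat.card {v : Fin 3 → F // ∃ hv : herm v v = 1, ¬ Commute (base hF) (rot hF v hv) ∧
      ∀ y : ↥(Cfsg.SU 3 F q), y ≠ 1 → y * y = 1 → ¬ (Commute (base hF) y ∧ Commute y (rot hF v hv))} =
      Nat.card ({μ : F // μ ^ (q + 1) = 1} ×
        {z : Fin 2 → F // Cfsg.hermForm 2 F q z z = 0 ∧ z ≠ 0}) := by
    have key : ∀ (v : Fin 3 → F) (hv : herm v v = 1),
        (¬ Commute (base hF) (rot hF v hv) ∧
          ∀ y : ↥(Cfsg.SU 3 F q), y ≠ 1 → y * y = 1 → ¬ (Commute (base hF) y ∧ Commute y (rot hF v hv))) →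
        v 0 ^ (q + 1) = 1 ∧ Fin.tail v ≠ 0 := by
      intro v hv ⟨hc, hno⟩
      refine ⟨?_, fun hz => hc ((commute_base_iff hq hF hv).2 (Or.inr ⟨congrFun hz 0, congrFun hz 1⟩))⟩
      by_contra hN
      obtain ⟨y, hy1, hy2, hy3, hy4⟩ := (common_iff hq hF hv hc).2 (by rw [← pow_succ']; exact hN)
      exact hno y hy1 hy2 ⟨hy3, hy4⟩
    refine Nat.card_congr
      { toFun := fun v => (⟨v.1 0, (key v.1 v.2.choose v.2.choose_spec).1⟩, ⟨Fin.tail v.1, ?_, (key v.1 v.2.choose v.2.choose_spec).2⟩)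
        invFun := fun z => ⟨Fin.cons z.1.1 z.2.1, ?_⟩
        left_inv := fun v => Subtype.ext (Fin.cons_self_tail v.1)
        right_inv := fun z => by
          refine Prod.ext (Subtype.ext ?_) (Subtype.ext ?_)
          · exact Fin.cons_zero (α := fun _ : Fin 3 => F) z.1.1 z.2.1
          · exact Fin.tail_cons (α := fun _ : Fin 3 => F) z.1.1 z.2.1 }
    · obtain ⟨hv, hrest⟩ := v.2
      have h1 := (key v.1 hv hrest).1
      have := hv
      rw [← Fin.cons_self_tail v.1, Classical.hermForm_cons, ← pow_succ', h1, add_eq_left] at this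
      exact this
    · have hv : herm (Fin.cons z.1.1 z.2.1) (Fin.cons z.1.1 z.2.1) = 1 := by
        rw [Classical.hermForm_cons, z.2.2.1, add_zero, ← pow_succ']; exact z.1.2
      have hc : ¬ Commute (base hF) (rot hF _ hv) := fun hc => by
        rcases (commute_base_iff hq hF hv).1 hc with h0 | ⟨h1, h2⟩
        · have := z.1.2
          rw [show z.1.1 = 0 from h0, zero_pow (by omega)] at this
          exact zero_ne_one this
        · refine z.2.2.2 (funext fun i => ?_)
          fin_cases i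
          · exact h1
          · exact h2
      refine ⟨hv, hc, fun y hy1 hy2 ⟨hy3, hy4⟩ => ?_⟩
      refine (common_iff hq hF hv hc).1 ⟨y, hy1, hy2, hy3, hy4⟩ ?_
      rw [Fin.cons_zero, ← pow_succ']; exact z.1.2
  rw [hE, Nat.card_prod, Classical.natCard_normOne hF] at h
  refine (Nat.eq_of_mul_eq_mul_left (show 0 < q + 1 by omega) h).trans ?_
  have h0 := Classical.natCard_hermForm_zero hF 2
  rw [if_pos (by decide)] at h0
  have h1 : Nat.card {z : Fin 2 → F // Cfsg.hermForm 2 F q z z = 0 ∧ z ≠ 0} + 1 =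
      Nat.card {z : Fin 2 → F // Cfsg.hermForm 2 F q z z = 0} := by
    rw [Nat.card_eq_fintype_card, Nat.card_eq_fintype_card, Fintype.card_subtype, Fintype.card_subtype]
    have : (Finset.univ.filter fun z : Fin 2 → F => Cfsg.hermForm 2 F q z z = 0 ∧ z ≠ 0) =
        (Finset.univ.filter fun z : Fin 2 → F => Cfsg.hermForm 2 F q z z = 0).erase 0 := by
      ext z; simp [and_comm]
    rw [this, Finset.card_erase_add_one]
    simp [Cfsg.hermForm]
  rw [h0, show q ^ (2 - 1) = q from pow_one q, Nat.add_right_cancel_iff] at h1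
  rw [h1, mul_comm]

theorem card_split (hq : Odd q) (hF : Fintype.card F = q ^ 2) :
    Nat.card {x : ↥(Cfsg.SU 3 F q) // x ≠ 1 ∧ x * x = 1} =
      1 + Nat.card {x : ↥(Cfsg.SU 3 F q) // x ≠ 1 ∧ x * x = 1 ∧ x ≠ base hF ∧ Commute (base hF) x} +
      Nat.card {x : ↥(Cfsg.SU 3 F q) // x ≠ 1 ∧ x * x = 1 ∧ ¬ Commute (base hF) x ∧ Common (base hF) x} +
      Nat.card {x : ↥(Cfsg.SU 3 F q) // x ≠ 1 ∧ x * x = 1 ∧ ¬ Commute (base hF) x ∧
        ∀ y : ↥(Cfsg.SU 3 F q), y ≠ 1 → y * y = 1 → ¬ (Commute (base hF) y ∧ Commute y x)} := by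
  classical
  simp only [Nat.card_eq_fintype_card, Fintype.card_subtype]
  rw [← Finset.card_singleton (base hF), ← Finset.card_union_of_disjoint, ← Finset.card_union_of_disjoint,
    ← Finset.card_union_of_disjoint]
  · congr 1
    ext x
    simp only [Finset.mem_filter, Finset.mem_univ, true_and, Finset.mem_union, Finset.mem_singleton]
    constructor
    · rintro ⟨h1, h2⟩
      by_cases hc : Commute (base hF) x
      · by_cases he : x = base hF
        · exact Or.inl (Or.inl (Or.inl he))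
        · exact Or.inl (Or.inl (Or.inr ⟨h1, h2, he, hc⟩))
      · by_cases hco : Common (base hF) x
        · exact Or.inl (Or.inr ⟨h1, h2, hc, hco⟩)
        · exact Or.inr ⟨h1, h2, hc, fun y a b c => hco ⟨y, a, b, c.1, c.2⟩⟩
    · rintro (((rfl | h) | h) | h)
      · exact ⟨base_ne_one hq hF, base_sq hF⟩
      · exact ⟨h.1, h.2.1⟩
      · exact ⟨h.1, h.2.1⟩
      · exact ⟨h.1, h.2.1⟩
  · rw [Finset.disjoint_left]
    intro x hx hx'
    simp only [Finset.mem_filter, Finset.mem_univ, true_and, Finset.mem_union, Finset.mem_singleton] at hx hx'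
    rcases hx with (rfl | h) | h
    · exact hx'.2.2.1 (Commute.refl _)
    · exact hx'.2.2.1 h.2.2.2
    · obtain ⟨y, a, b, c, d⟩ := h.2.2.2
      exact hx'.2.2.2 y a b ⟨c, d⟩
  · rw [Finset.disjoint_left]
    intro x hx hx'
    simp only [Finset.mem_filter, Finset.mem_univ, true_and, Finset.mem_union, Finset.mem_singleton] at hx hx'
    rcases hx with rfl | h
    · exact hx'.2.2.1 (Commute.refl _)
    · exact hx'.2.2.1 h.2.2.2
  · rw [Finset.disjoint_left]
    intro x hx hx'
    simp only [Finset.mem_filter, Finset.mem_univ, true_and, Finset.mem_singleton] at hx hx'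
    exact hx'.2.2.1 hx

/-- Every involution is within three commuting steps of the base one. -/
theorem three_steps (hq : Odd q) (hF : Fintype.card F = q ^ 2) (x : ↥(Cfsg.SU 3 F q)) (hx : x ≠ 1)
    (hx2 : x * x = 1) :
    ∃ y z : ↥(Cfsg.SU 3 F q), y ≠ 1 ∧ y * y = 1 ∧ z ≠ 1 ∧ z * z = 1 ∧
      Commute (base hF) y ∧ Commute y z ∧ Commute z x := by
  classical
  have hb1 := base_ne_one hq hF
  have hb2 := base_sq hF
  by_cases hc : Commute (base hF) x
  · exact ⟨base hF, base hF, hb1, hb2, hb1, hb2, Commute.refl _, Commute.refl _, hc⟩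
  by_cases hco : Common (base hF) x
  · obtain ⟨y, a, b, c, d⟩ := hco
    exact ⟨base hF, y, hb1, hb2, a, b, Commute.refl _, c, d⟩
  obtain ⟨v, hv, rfl⟩ := exists_rot hq hF x hx hx2
  have hN : v 0 * v 0 ^ q = 1 := by
    by_contra h
    exact hco ((common_iff hq hF hv hc).2 h)
  have h2 := two_ne_zero_of_odd hq hF
  have hq0 := q_ne_zero hF
  have hz : v 1 * v 1 ^ q + v 2 * v 2 ^ q = 0 := by
    have := hv
    simp [Cfsg.hermForm, Fin.sum_univ_three] at this
    linear_combination this - hN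
  have hzne : ¬ (v 1 = 0 ∧ v 2 = 0) := fun h => hc ((commute_base_iff hq hF hv).2 (Or.inr h))
  obtain ⟨i, hi0, hi⟩ : ∃ i : Fin 3, i ≠ 0 ∧ v i * v i ^ q ≠ 1 := by
    by_contra hcon
    push Not at hcon
    have a := hcon 1 (by decide)
    have b := hcon 2 (by decide)
    rw [a, b] at hz
    exact h2 (by linear_combination hz)
  let u : Fin 3 → F := Pi.single i 1
  have hu : herm u u = 1 := by
    fin_cases i <;> simp [u, Cfsg.hermForm, Fin.sum_univ_three, hq0] at hi0 ⊢
  have huv : herm v u = v i := by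
    fin_cases i <;> simp [u, Cfsg.hermForm, Fin.sum_univ_three, hq0]
  have hne : herm (crossVec q u v) (crossVec q u v) ≠ 0 := by
    rw [crossVec_norm hF, hu, hv, ← herm_swap hF v u, huv, mul_one, mul_comm, sub_ne_zero]
    exact fun h => hi h.symm
  obtain ⟨μ, hμ, hs⟩ := exists_scale hF _ hne
  refine ⟨rot hF u hu, rot hF _ hs, rot_ne_one hq hF _ _, rot_sq hF _ _, rot_ne_one hq hF _ _, rot_sq hF _ _,
    ?_, ?_, ?_⟩
  · exact (commute_base_iff hq hF hu).2 (Or.inl (Pi.single_eq_of_ne hi0.symm 1))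
  · refine (commute_iff hq hF _ _).2 (Or.inl ?_)
    rw [herm_smul_right, crossVec_orth_left hF, mul_zero]
  · refine ((commute_iff hq hF _ _).2 (Or.inl ?_)).symm
    rw [herm_smul_right, crossVec_orth_right hF, mul_zero]

/-- Transport of a count along conjugation. -/
theorem card_transport {G : Type*} [Group G] (e : G ≃* G) (P Q : G → Prop) (h : ∀ x, P x ↔ Q (e x)) :
    Nat.card {x // P x} = Nat.card {x // Q x} :=
  Nat.card_congr (e.toEquiv.subtypeEquiv h)

end Cfsg.Agent.Lib.Unitary3
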